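import Cfsg.Agent.Mrg.Omega.NOThreeL.RZ.TwoC.FrEOf
import Cfsg.Agent.Mrg.Omega.NOThreeL.RRed.EOneTr
import Cfsg.Agent.Mrg.Omega.NOThreeL.RRed.TvOrbs
import Cfsg.Agent.Mrg.Omega.NOThreeL.RRed.AtomTv
import Cfsg.Agent.Mrg.Omega.NOThreeL.RRed.FourTree
import Cfsg.Agent.Mrg.Omega.NOThreeL.RRed.ClassMod


/-!
# [R-z] (#25243): the frame `FrE` from blocks of one kind, in particular from the transvection blocks

* **`frE_ofR`** : `Dec S Y V* N E R₀`, `Orbs`, `R ≤ R₀`, `R ∩ Z ≠ 1` imply `FrE S R (∏ N b) e`;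
* `tv_best`, `tv_mx` : an element of `S` which acts as a transvection generates a best (minimal exact) offender;
* `le_R₀` : `C_{V*}(E₁) ≤ R₀`, `R₀` = the elements fixed by all transvections;
* `norm_B` : `N_G(S)` normalises the product of the transvection blocks;
* **`frE_tvS`** : a transvection in `S`, `C_Z(E₁) ≠ 1`, the best offenders of `S` centralise `R₁ = ⟨C_Z(E₁)^Y⟩`: the frame
  `FrE S R₁ (∏ N b) e`;
* **`frE_tv`** : the same without the last hypothesis, if no `P` is of type `q ≥ 4`.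
-/

set_option autoImplicit false
set_option linter.unusedSectionVars false

namespace Cfsg.Agent.Omega.NOThreeL.RZ.TwoE.Tv

open Subgroup Cfsg
open Cfsg.Agent.ZN (o2 zc zl jj)
open Cfsg.Agent.ZN.ChoiceBase hiding mem_zc
open Cfsg.Agent.Omega.MinPar Cfsg.Agent.Omega.Frame Cfsg.Agent.Omega.FrameNOFF
open Cfsg.Agent.Omega.FFThm (ElemM OffM NoOverM)
open Cfsg.Agent.Omega.NO1.BestOff (Best)
open Cfsg.Agent.Omega.NO3b.Bang (cent_symm)
open Cfsg.Agent.Omega.NOThreeL.Star (YS le_YS S_le_YS)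
open Cfsg.Agent.Omega.NOThreeL.RRed
open Cfsg.Agent.Omega.NOThreeL.RRed.Blk
open Cfsg.Agent.Omega.NOThreeL.RRed.TvFin (TvV)
open Cfsg.Agent.Omega.NOThreeL.RRed.FourTree (TvS Fld Bks)
open Cfsg.Agent.Omega.NOThreeL.RRed.EOne (E1 E1S Z1 R1 B1)
open Cfsg.Agent.Omega.NOThreeL.RTreeF (RBF)
open Cfsg.Agent.Omega.NOThreeL.RTree (RB)
open Cfsg.Agent.Omega.NOThreeL.RZ.TwoC (FrE)
open Cfsg.Agent.Omega.NOThreeL.RZ.TwoC.FrEOf (low_of best_of_mem nS_Vs)
open Cfsg.Agent.Omega.KL.TwoS (Rel Lett)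
open Cfsg.Agent.Omega.NO3S.EThree.ExactA (eab_iff)
open Cfsg.Agent.MinSimple.VModule (zc_le_zl le_normalizer_zl mem_zc)
open scoped Pointwise

universe u v

variable {G : Type u} [Group G]

/-! ### The frame from the blocks -/

section frame

variable [Finite G] {S : Sylow 2 G} {ι : Type v} [Finite ι] {N E : ι → Subgroup G} {R₀ R : Subgroup G} {O : ι → Set G}

/-- **The frame `FrE` from blocks of one kind**, `R ≤ R₀`. -/
theorem frE_ofR [Nonempty ι] (hB : RB S)
    (h : Dec (S : Subgroup G) (YS (S : Subgroup G)) (zl (S : Subgroup G) (YS S)) N E R₀)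
    (o : TwoC.DecE.Orbs (YS (S : Subgroup G)) N E O)
    (hdif : ∀ b, N b ≤ closure {g | ∃ x ∈ O b, ∃ y ∈ O b, g = y * x⁻¹})
    (hRR : R ≤ R₀) (nR : YS (S : Subgroup G) ≤ normalizer (R : Set G))
    (sR : normalizer ((S : Subgroup G) : Set G) ≤ normalizer (R : Set G))
    (ne : R ⊓ zc (S : Subgroup G) ≠ ⊥)
    (hA : zl (S : Subgroup G) (YS S) ≤ o2 (CZ (S : Subgroup G)) →
      ∀ A ∈ AA (o2 (CZ (S : Subgroup G))), A ≤ centralizer (R : Set G))
    (sB : normalizer ((S : Subgroup G) : Set G) ≤ normalizer ((⨆ b, N b : Subgroup G) : Set G)) :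
    ∃ e ∈ TwoC.DecE.PP N R₀ O, FrE S R (⨆ b, N b) e := by
  have hsq : ∀ v ∈ zl (S : Subgroup G) (YS S), v ^ 2 = 1 := Star.zl_sq hB.ctx.char2 hB.data.noff
  have hP : IsPGroup 2 (zl (S : Subgroup G) (YS S)) := fun x => ⟨1, Subtype.ext (by simpa using hsq x x.2)⟩
  have hUS : zl (S : Subgroup G) (YS S) ≤ (S : Subgroup G) :=
    le_of_le_normalizer S hP (h.SL.trans (le_normalizer_zl _ _))
  obtain ⟨e, he, heS⟩ := TwoC.DecE.exists_e h o S.isPGroup'
  have e1 : e ≠ 1 := TwoC.DecE.ne_one h o he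
  have eU : e ∈ zl (S : Subgroup G) (YS S) := TwoC.DecE.B_le h he.1
  have eZ : e ∈ zc (S : Subgroup G) :=
    mem_zc.2 ⟨hUS eU, fun s hs => (mem_centralizer_iff.1 (heS hs) e rfl).symm, hsq e eU⟩
  have ne0 : R₀ ⊓ zc (S : Subgroup G) ≠ ⊥ := fun h0 => ne (eq_bot_iff.2 (h0 ▸ inf_le_inf_right _ hRR))
  have low := low_of hB h o hdif ne0 he eZ e1
  have tr : YS (S : Subgroup G) ≤ (YS (S : Subgroup G) ⊓ centralizer (R : Set G)) ⊔
      (YS (S : Subgroup G) ⊓ centralizer ({e} : Set G)) := by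
    refine (TwoC.DecE.le_of h o he).trans (sup_le le_sup_right ?_)
    exact (le_inf (TwoC.DecE.E_le h) ((TwoC.DecE.E_cent h).trans (centralizer_le hRR))).trans le_sup_left
  refine ⟨e, he, FrE.of_norm hB.ctx hB.full nR (TwoC.DecE.le_norm_B h) sR sB (hRR.trans (TwoC.DecE.R_le h))
    (TwoC.DecE.B_le h) ne (hA low) low h.ab hsq ?_ eZ he.1 e1 tr⟩
  rw [eq_bot_iff, ← TwoC.DecE.disj h]
  exact inf_le_inf_left _ hRR

/-- every `A ∈ 𝒜(O₂(C_G(Z)))` is a best offender of `S` on `V*` (Thompson) -/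
theorem hA_best (hB : RB S) (hb : ∀ A ≤ (S : Subgroup G), Best (zl (S : Subgroup G) (YS S)) A →
      A ≤ centralizer (R : Set G)) (low : zl (S : Subgroup G) (YS S) ≤ o2 (CZ (S : Subgroup G))) :
    ∀ A ∈ AA (o2 (CZ (S : Subgroup G))), A ≤ centralizer (R : Set G) := by
  intro A hA
  exact hb A (hA.2.1.trans TwoC.Loc.o2C_le) (best_of_mem (eab_iff.2 ⟨EOne.VC hB, EOne.Vsq hB⟩) low hA)

end frame

/-! ### Transvections -/

section tv

variable {V : Subgroup G} {c s : G}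

theorem tv_two (hc : c ∈ V) (hsq : ∀ v ∈ V, v ^ 2 = 1) (hT : TvV V c s) : s ^ 2 ∈ centralizer (V : Set G) := by
  have hcc : c * c = 1 := by rw [← pow_two]; exact hsq c hc
  have h1 : s * c * s⁻¹ = c := by
    rcases hT c hc with h | h
    · exact h
    · rw [hcc] at h
      have h2 : c = 1 := by
        have e : c = s⁻¹ * (s * c * s⁻¹) * s := by group
        rw [e, h]; group
      rw [h2]; group
  rw [mem_centralizer_iff]
  intro w hw
  have key : s ^ 2 * w * (s ^ 2)⁻¹ = w := by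
    have e : s ^ 2 * w * (s ^ 2)⁻¹ = s * (s * w * s⁻¹) * s⁻¹ := by rw [pow_two]; group
    rw [e]
    rcases hT w hw with h | h
    · rw [h, h]
    · rw [h]
      have e2 : s * (w * c) * s⁻¹ = (s * w * s⁻¹) * (s * c * s⁻¹) := by group
      rw [e2, h, h1, mul_assoc, hcc, mul_one]
  calc w * s ^ 2 = (s ^ 2 * w * (s ^ 2)⁻¹) * s ^ 2 := by rw [key]
    _ = s ^ 2 * w := by group

theorem tv_elem (h2 : s ^ 2 ∈ centralizer (V : Set G)) : ElemM V (zpowers s) := by
  constructor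
  · rintro a ⟨k, rfl⟩
    have e : (s ^ k) ^ 2 = (s ^ 2) ^ k := by
      rw [← zpow_natCast, ← zpow_mul, ← zpow_natCast, ← zpow_mul, mul_comm]
    change (s ^ k) ^ 2 ∈ _
    rw [e]
    exact zpow_mem h2 k
  · rintro a ⟨k, rfl⟩ b ⟨l, rfl⟩
    have e : s ^ k * s ^ l * (s ^ k)⁻¹ * (s ^ l)⁻¹ = 1 := by
      rw [← zpow_add, add_comm, zpow_add]; group
    change s ^ k * s ^ l * (s ^ k)⁻¹ * (s ^ l)⁻¹ ∈ _
    rw [e]
    exact one_mem _

/-- a subgroup of `⟨s⟩` which contains `⟨s⟩ ∩ C(V)` lies in `C(V)` or is `⟨s⟩` -/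
theorem tv_sub (h2 : s ^ 2 ∈ centralizer (V : Set G)) {Y : Subgroup G} (hY : Y ≤ zpowers s)
    (hC : zpowers s ⊓ centralizer (V : Set G) ≤ Y) : Y ≤ centralizer (V : Set G) ∨ Y = zpowers s := by
  by_cases h : Y ≤ centralizer (V : Set G)
  · exact Or.inl h
  right
  obtain ⟨y, hy, hyn⟩ := Set.not_subset.1 h
  obtain ⟨k, hk⟩ := hY hy
  refine le_antisymm hY (zpowers_le.2 ?_)
  change s ^ k = y at hk
  rcases Int.even_or_odd' k with ⟨m, hm | hm⟩
  · exfalso
    apply hyn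
    rw [← hk, hm, zpow_mul, zpow_ofNat]
    exact zpow_mem h2 m
  · have h3 : (s ^ 2) ^ m ∈ Y := hC ⟨zpow_mem (pow_mem (mem_zpowers s) 2) m, zpow_mem h2 m⟩
    have e : s = (((s ^ 2) ^ m)⁻¹) * y := by
      rw [← hk, hm, zpow_add, zpow_mul, zpow_ofNat, zpow_one]; group
    rw [e]
    exact mul_mem (inv_mem h3) hy

variable [Finite G]

theorem cent_zpowers (s : G) : centralizer ((zpowers s : Subgroup G) : Set G) = centralizer ({s} : Set G) := by
  apply le_antisymm
  · exact centralizer_le (Set.singleton_subset_iff.2 (mem_zpowers s))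
  · rw [le_centralizer_iff, zpowers_le, mem_centralizer_iff]
    exact fun v hv => mem_centralizer_singleton_iff.1 hv

theorem two_card {Y : Subgroup G} (hY : Y ≤ zpowers s) (hne : Y ≠ zpowers s) :
    2 * Nat.card Y ≤ Nat.card (zpowers s) := by
  have h5 := card_mul_index (Y.subgroupOf (zpowers s))
  rw [Nat.card_congr (subgroupOfEquivOfLe hY).toEquiv] at h5
  have h6 : (Y.subgroupOf (zpowers s)).index ≠ 1 := by
    rw [Ne, index_eq_one, subgroupOf_eq_top]
    exact fun h7 => hne (le_antisymm hY h7)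
  have h7 : (Y.subgroupOf (zpowers s)).index ≠ 0 := index_ne_zero_of_finite
  have h8 : 2 ≤ (Y.subgroupOf (zpowers s)).index := by omega
  calc 2 * Nat.card Y = Nat.card Y * 2 := mul_comm _ _
    _ ≤ _ := Nat.mul_le_mul_left _ h8
    _ = _ := h5

/-- **a transvection is a best offender** -/
theorem tv_best (hc : c ∈ V) (hsq : ∀ v ∈ V, v ^ 2 = 1) (hT : TvV V c s) (_hn : s ∉ centralizer (V : Set G)) :
    Best V (zpowers s) := by
  have h2 := tv_two hc hsq hT
  refine { toElemM := tv_elem h2, max := fun Y hY hC => ?_ }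
  rcases eq_or_ne Y (zpowers s) with rfl | hne
  · exact le_rfl
  have h3 := two_card hY hne
  have h4 := RRed.TvAtom.card_le_tv hT
  rw [cent_zpowers]
  calc Nat.card Y * Nat.card ↥(V ⊓ centralizer (Y : Set G)) ≤ Nat.card Y * Nat.card V :=
        Nat.mul_le_mul_left _ (Subgroup.card_le_of_le inf_le_left)
    _ ≤ Nat.card Y * (2 * Nat.card ↥(V ⊓ centralizer ({s} : Set G))) := Nat.mul_le_mul_left _ h4
    _ = (2 * Nat.card Y) * Nat.card ↥(V ⊓ centralizer ({s} : Set G)) := by ring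
    _ ≤ _ := Nat.mul_le_mul_right _ h3

/-- **a transvection is a minimal exact offender** -/
theorem tv_mx {L : Subgroup G} (hno : NoOverM V L) (hsL : s ∈ L) (hs2 : IsPGroup 2 (zpowers s)) (hc : c ∈ V)
    (hsq : ∀ v ∈ V, v ^ 2 = 1) (hT : TvV V c s) (hn : s ∉ centralizer (V : Set G)) : RRed.Mx V (zpowers s) := by
  have h2 := tv_two hc hsq hT
  have hE := tv_elem h2
  have h0 : ¬ zpowers s ≤ centralizer (V : Set G) := fun h => hn (h (mem_zpowers s))
  refine { toElemM := hE, pg := hs2, ne := h0, exact := ?_, min := fun Y hY _ hC => tv_sub h2 hY hC }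
  have h3 := two_card (Y := zpowers s ⊓ centralizer (V : Set G)) inf_le_left fun h => h0 (inf_eq_left.1 h)
  have h4 := RRed.TvAtom.card_le_tv hT
  refine le_antisymm ?_ (hno _ (zpowers_le.2 hsL) hE)
  rw [cent_zpowers]
  calc Nat.card V * Nat.card ↥(zpowers s ⊓ centralizer (V : Set G))
      ≤ (2 * Nat.card ↥(V ⊓ centralizer ({s} : Set G))) * Nat.card ↥(zpowers s ⊓ centralizer (V : Set G)) :=
        Nat.mul_le_mul_right _ h4
    _ = (2 * Nat.card ↥(zpowers s ⊓ centralizer (V : Set G))) * Nat.card ↥(V ⊓ centralizer ({s} : Set G)) := by ring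
    _ ≤ _ := Nat.mul_le_mul_right _ h3

end tv

section blocks

variable {S M V : Subgroup G} {I : Type u} {N E : I → Subgroup G} {R₀ : Subgroup G} {Om : I → Type u}
    [∀ i, Fintype (Om i)] [∀ i, DecidableEq (Om i)] {phi : ∀ i, Finset (Om i) → G}
    (F : TvFin.Full S M V N E R₀ Om phi)
include F

theorem TvV.conj {V' : Subgroup G} {c x n : G} (hT : TvV V' c x) (hn : n ∈ normalizer (V' : Set G)) :
    TvV V' (n * c * n⁻¹) (n * x * n⁻¹) := by
  clear F
  intro w hw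
  have hw' : n⁻¹ * w * n ∈ V' := (mem_normalizer_iff''.1 hn w).1 hw
  rcases hT _ hw' with h | h
  · left
    calc n * x * n⁻¹ * w * (n * x * n⁻¹)⁻¹ = n * (x * (n⁻¹ * w * n) * x⁻¹) * n⁻¹ := by group
      _ = w := by rw [h]; group
  · right
    calc n * x * n⁻¹ * w * (n * x * n⁻¹)⁻¹ = n * (x * (n⁻¹ * w * n) * x⁻¹) * n⁻¹ := by group
      _ = w * (n * c * n⁻¹) := by rw [h]; group

/-- the product of the blocks is generated by the centres -/
theorem B_le_iff {K : Subgroup G} : (⨆ i, N i) ≤ K ↔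
    ∀ x ∈ M, ∀ c ∈ V, TvV V c x → x ∉ centralizer (V : Set G) → c ∈ K := by
  constructor
  · intro h x hx c hc hT hne
    obtain ⟨i, -, a, b, hab, rfl, -⟩ := F.tvs x hx c hc hT hne
    refine h (le_iSup N i ?_)
    rw [(F.lett i).mem]
    exact ⟨{a, b}, by rw [Finset.card_pair hab]; exact even_two, rfl⟩
  · intro h
    refine iSup_le fun i => RRed.TvTr.diff_le (F.lett i) fun p q => ?_
    rw [RRed.TvTr.erase_mul (F.lett i)]
    by_cases hpq : p = q
    · subst hpq
      rw [← (F.lett i).mul, symmDiff_self]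
      have : phi i (⊥ : Finset (Om i)) = 1 := (F.lett i).phi_empty
      rw [this]
      exact one_mem _
    · obtain ⟨x, hxE, hrel, hT⟩ := F.swap i p q hpq
      have e1 : phi i {p} * phi i {q} = phi i {p, q} := by
        rw [← (F.lett i).mul]
        congr 1
        ext y
        rw [Finset.mem_symmDiff, Finset.mem_singleton, Finset.mem_singleton, Finset.mem_insert, Finset.mem_singleton]
        constructor
        · rintro (⟨h1, -⟩ | ⟨h1, -⟩)
          · exact Or.inl h1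
          · exact Or.inr h1
        · rintro (h1 | h1)
          · exact Or.inl ⟨h1, fun h2 => hpq (h1 ▸ h2)⟩
          · exact Or.inr ⟨h1, fun h2 => hpq (h2 ▸ h1 ▸ rfl)⟩
      rw [e1]
      have hmem : ∀ a b : Om i, a ≠ b → phi i {a, b} ∈ N i := fun a b hab =>
        ((F.lett i).mem _).2 ⟨{a, b}, by rw [Finset.card_pair hab]; exact even_two, rfl⟩
      refine h x (F.EL i hxE) _ (F.NU i (hmem p q hpq)) hT ?_
      intro hcen
      -- a third letter
      obtain ⟨r, hr⟩ : ∃ r : Om i, r ∉ ({p, q} : Finset (Om i)) := by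
        by_contra hcon
        push Not at hcon
        have h3 := F.three i
        have h4 : Fintype.card (Om i) ≤ 2 := by
          rw [← Finset.card_univ]
          calc Finset.univ.card ≤ ({p, q} : Finset (Om i)).card := Finset.card_le_card fun y _ => hcon y
            _ ≤ 2 := Finset.card_le_two
        omega
      have hrp : p ≠ r := fun e => hr (by rw [e]; exact Finset.mem_insert_self _ _)
      have hrq : q ≠ r := fun e => hr (by rw [e]; exact Finset.mem_insert_of_mem (Finset.mem_singleton_self _))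
      have h5 := hrel {p, r} (by rw [Finset.card_pair hrp]; exact even_two)
      have h6 : x * phi i {p, r} * x⁻¹ = phi i {p, r} := by
        rw [← mem_centralizer_iff.1 hcen _ (F.NU i (hmem p r hrp))]; group
      rw [h6] at h5
      have h7 : (({p, r} : Finset (Om i)).map (Equiv.swap p q).toEmbedding) = {q, r} := by
        rw [Finset.map_insert, Finset.map_singleton]
        simp only [Equiv.toEmbedding_apply, Equiv.swap_apply_left]
        rw [Equiv.swap_apply_of_ne_of_ne (Ne.symm hrp) (Ne.symm hrq)]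
      rw [h7] at h5
      have h8 := (F.lett i).phi_inj (by rw [Finset.card_pair hrp]; exact even_two)
        (by rw [Finset.card_pair hrq]; exact even_two) h5
      have h9 : p ∈ ({q, r} : Finset (Om i)) := h8 ▸ Finset.mem_insert_self _ _
      rw [Finset.mem_insert, Finset.mem_singleton] at h9
      exact h9.elim hpq hrp

variable [Finite G]

/-- a group which normalises `M` and `V` normalises the product of the blocks -/
theorem norm_B {X : Subgroup G} (hM : X ≤ normalizer (M : Set G)) (hV : X ≤ normalizer (V : Set G)) :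
    X ≤ normalizer ((⨆ i, N i : Subgroup G) : Set G) := by
  intro n hn
  refine mem_normalizer_of_cj_le ?_
  rw [cj_le_iff, B_le_iff F]
  intro x hx c hc hT hne
  rw [mem_cj, inv_inv]
  refine (B_le_iff F).1 le_rfl (n * x * n⁻¹) ((mem_normalizer_iff.1 (hM hn) x).1 hx) _
    ((mem_normalizer_iff.1 (hV hn) c).1 hc) (TvV.conj F hT (hV hn)) fun h => hne ?_
  rw [mem_centralizer_iff] at h ⊢
  intro v hv
  have h1 := h _ ((mem_normalizer_iff.1 (hV hn) v).1 hv)
  calc v * x = n⁻¹ * ((n * v * n⁻¹) * (n * x * n⁻¹)) * n := by group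
    _ = n⁻¹ * ((n * x * n⁻¹) * (n * v * n⁻¹)) * n := by rw [h1]
    _ = x * v := by group

end blocks

/-! ### `V*` -/

section main

variable [Finite G] {S : Sylow 2 G}

/-- a transvection in `S` gives (NO) on `V*` -/
theorem no_of_tvS (h : RB S) {s c : G} (hs : s ∈ (S : Subgroup G)) (hc : c ∈ zl (S : Subgroup G) (YS S))
    (hT : TvV (zl (S : Subgroup G) (YS S)) c s) (hn : s ∉ centralizer (zl (S : Subgroup G) (YS S) : Set G)) :
    NoOverM (zl (S : Subgroup G) (YS S)) (YS (S : Subgroup G)) := by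
  have hb := tv_best hc (EOne.Vsq h) hT hn
  have hoff : OffM (zl (S : Subgroup G) (YS S)) (zpowers s) := by
    refine ⟨hb.toElemM, fun h1 => hn (h1 (mem_zpowers s)), ?_⟩
    have h2 := hb.max (zpowers s ⊓ centralizer (zl (S : Subgroup G) (YS S) : Set G)) inf_le_left le_rfl
    have h3 : zl (S : Subgroup G) (YS S) ⊓ centralizer
        ((zpowers s ⊓ centralizer (zl (S : Subgroup G) (YS S) : Set G) : Subgroup G) : Set G) =
        zl (S : Subgroup G) (YS S) := inf_eq_left.2 (le_centralizer_iff.1 inf_le_right)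
    rw [h3, mul_comm] at h2
    exact h2
  obtain ⟨P, A, hg⟩ := exists_gOne h.ctx.char2 (Merge.isLoc_MZ h.ctx h.full h.data.noff) (FourTree.gen_MZ S)
    ⟨zpowers s, zpowers_le.2 (EOne.S_YS h hs), hoff⟩
  exact hg.no

/-- an element of `S` which acts as a transvection is in `E₁` -/
theorem tv_mem_E1 (h : RB S) {s c : G} (hs : s ∈ (S : Subgroup G)) (hc : c ∈ zl (S : Subgroup G) (YS S))
    (hT : TvV (zl (S : Subgroup G) (YS S)) c s) (hn : s ∉ centralizer (zl (S : Subgroup G) (YS S) : Set G)) :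
    s ∈ E1 (S : Subgroup G) :=
  EOne.mx_le_E1 (zpowers_le.2 hs)
    (tv_mx (no_of_tvS h hs hc hT hn) (EOne.S_YS h hs) (S.isPGroup'.to_le (zpowers_le.2 hs)) hc (EOne.Vsq h) hT hn)
    (mem_zpowers s)

/-- **`C_{V*}(E₁)` is fixed by all transvections** -/
theorem fix_tv (h : RB S) {v x c : G} (hv : v ∈ zl (S : Subgroup G) (YS S))
    (hvE : v ∈ centralizer (E1 (S : Subgroup G) : Set G)) (hx : x ∈ YS (S : Subgroup G))
    (hc : c ∈ zl (S : Subgroup G) (YS S)) (hT : TvV (zl (S : Subgroup G) (YS S)) c x) : x * v * x⁻¹ = v := by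
  set V : Subgroup G := zl (S : Subgroup G) (YS S) with hV
  have hYV : YS (S : Subgroup G) ≤ normalizer (V : Set G) := le_normalizer_zl _ _
  by_cases hne : x ∈ centralizer (V : Set G)
  · rw [← mem_centralizer_iff.1 hne v hv]; group
  obtain ⟨B, hB, hB2, hdec⟩ := VF.exists_two (zpowers_le.2 (hYV hx)) (tv_elem (tv_two hc (EOne.Vsq h) hT))
  obtain ⟨b, hb, hbx⟩ := hdec x (mem_zpowers x)
  obtain ⟨g, hg, hgS⟩ := CM.exists_conj_le S.isPGroup' (MinSimple.Basic.not_dvd_relIndex S (EOne.S_YS h)) hB2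
    (hB.trans (zpowers_le.2 hx))
  -- `b` acts as `x`
  have act : ∀ w ∈ V, b * w * b⁻¹ = x * w * x⁻¹ := by
    intro w hw
    have h1 : w * (b⁻¹ * x) = (b⁻¹ * x) * w := mem_centralizer_iff.1 hbx w hw
    calc b * w * b⁻¹ = b * (w * (b⁻¹ * x)) * x⁻¹ := by group
      _ = b * ((b⁻¹ * x) * w) * x⁻¹ := by rw [h1]
      _ = x * w * x⁻¹ := by group
  have hTb : TvV V c b := fun w hw => by
    rw [act w hw]
    exact hT w hw
  have hnb : b ∉ centralizer (V : Set G) := fun h1 => hne (by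
    have e : x = b * (b⁻¹ * x) := by group
    rw [e]
    exact mul_mem h1 hbx)
  have hgV := hYV hg
  have hTs : TvV V (g * c * g⁻¹) (g * b * g⁻¹) := by
    intro w hw
    have hw' : g⁻¹ * w * g ∈ V := (mem_normalizer_iff''.1 hgV w).1 hw
    rcases hTb _ hw' with h1 | h1
    · left
      calc g * b * g⁻¹ * w * (g * b * g⁻¹)⁻¹ = g * (b * (g⁻¹ * w * g) * b⁻¹) * g⁻¹ := by group
        _ = w := by rw [h1]; group
    · right
      calc g * b * g⁻¹ * w * (g * b * g⁻¹)⁻¹ = g * (b * (g⁻¹ * w * g) * b⁻¹) * g⁻¹ := by group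
        _ = w * (g * c * g⁻¹) := by rw [h1]; group
  have hns : g * b * g⁻¹ ∉ centralizer (V : Set G) := by
    intro h1
    apply hnb
    rw [mem_centralizer_iff] at h1 ⊢
    intro w hw
    have h2 := h1 _ ((mem_normalizer_iff.1 hgV w).1 hw)
    calc w * b = g⁻¹ * ((g * w * g⁻¹) * (g * b * g⁻¹)) * g := by group
      _ = g⁻¹ * ((g * b * g⁻¹) * (g * w * g⁻¹)) * g := by rw [h2]
      _ = b * w := by group
  have hsE := tv_mem_E1 h (hgS b hb) ((mem_normalizer_iff.1 hgV c).1 hc) hTs hns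
  have hbE : b ∈ E1 (S : Subgroup G) := (mem_normalizer_iff.1 (EOne.YS_le_norm_E1 _ hg) b).2 hsE
  rw [← act v hv, mem_centralizer_iff.1 hvE b hbE]
  group

variable {I : Type u} {N E : I → Subgroup G} {R₀ : Subgroup G} {Om : I → Type u}
    [∀ i, Fintype (Om i)] [∀ i, DecidableEq (Om i)] {phi : ∀ i, Finset (Om i) → G}

/-- **`R₁ ≤ R₀`** -/
theorem R1_le_R₀ (h : RB S) (F : Bks S N E R₀ Om phi) : R1 (S : Subgroup G) ≤ R₀ := fun v hv =>
  (F.fixR v (EOne.R1_le hv)).2 fun _ hx _ hc hT => fix_tv h (EOne.R1_le hv) (EOne.R1_cent hv) hx hc hT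

/-- **The frame `FrE` from the transvection blocks.** -/
theorem frE_bks [Finite I] (h : RB S) (F : Bks S N E R₀ Om phi) (h1 : ¬ E1S (S : Subgroup G))
    (hb : ∀ A ≤ (S : Subgroup G), Best (zl (S : Subgroup G) (YS S)) A →
      A ≤ centralizer (R1 (S : Subgroup G) : Set G)) :
    ∃ e ∈ TwoC.DecE.PP N R₀ (TvTr.Orb phi), FrE S (R1 (S : Subgroup G)) (⨆ i, N i) e := by
  have := F.nonempty
  refine frE_ofR (O := TvTr.Orb phi) h F.toDec (TvTr.orbs F.toFull) (TvTr.hdif F.toFull) (R1_le_R₀ h F)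
    (EOne.YS_le_norm_R1 _) EOne.nS_R1 (fun h0 => ?_) (hA_best h hb) (norm_B F.toFull TwoC.nS_ys nS_Vs)
  apply (EOne.ne_of_not h h1).1
  rw [eq_bot_iff, ← h0]
  exact le_inf (EOne.Z1_le_R1 _) (EOne.Z1_le _)

/-- a transvection in `S` : the transvection blocks -/
theorem exists_bks_tvS (h : RB S) (ht : TvS (S : Subgroup G)) :
    ∃ (I : Type u) (_ : Fintype I) (_ : DecidableEq I) (N E : I → Subgroup G) (R₀ : Subgroup G) (Om : I → Type u)
      (_ : ∀ i, Fintype (Om i)) (_ : ∀ i, DecidableEq (Om i)) (phi : ∀ i, Finset (Om i) → G),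
      Bks S N E R₀ Om phi := by
  obtain ⟨t, htS, c, hc, -, htv, hne⟩ := ht
  obtain ⟨I, i1, i2, N, E, R₀, Om, i3, i4, phi, F⟩ :=
    TvFin.blocks_zl (S := S) (L := YS (S : Subgroup G)) (EOne.S_YS h) (EOne.Vsq h) (no_of_tvS h htS hc htv hne)
  obtain ⟨i, -⟩ := F.tvs t (EOne.S_YS h htS) c hc htv hne
  exact ⟨I, i1, i2, N, E, R₀, Om, i3, i4, phi, { toFull := F, nonempty := ⟨i⟩ }⟩

/-- **The frame `FrE`**: a transvection in `S`, `C_Z(E₁) ≠ 1`. -/
theorem frE_tvS (h : RB S) (ht : TvS (S : Subgroup G)) (h1 : ¬ E1S (S : Subgroup G))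
    (hb : ∀ A ≤ (S : Subgroup G), Best (zl (S : Subgroup G) (YS S)) A →
      A ≤ centralizer (R1 (S : Subgroup G) : Set G)) :
    ∃ (I : Type u) (_ : Fintype I) (_ : DecidableEq I) (N E : I → Subgroup G) (R₀ : Subgroup G) (Om : I → Type u)
      (_ : ∀ i, Fintype (Om i)) (_ : ∀ i, DecidableEq (Om i)) (phi : ∀ i, Finset (Om i) → G),
      Bks S N E R₀ Om phi ∧ R1 (S : Subgroup G) ≤ R₀ ∧
        ∃ e ∈ TwoC.DecE.PP N R₀ (TvTr.Orb phi), FrE S (R1 (S : Subgroup G)) (⨆ i, N i) e := by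
  obtain ⟨I, i1, i2, N, E, R₀, Om, i3, i4, phi, F⟩ := exists_bks_tvS h ht
  exact ⟨I, i1, i2, N, E, R₀, Om, i3, i4, phi, F, R1_le_R₀ h F, frE_bks h F h1 hb⟩

/-- **The frame `FrE`**: `V*` FF, no `P` of type `q ≥ 4`, `C_Z(E₁) ≠ 1`. -/
theorem frE_tv (h : RB S) (hoff : ∃ A ≤ YS (S : Subgroup G), OffM (zl (S : Subgroup G) (YS S)) A) (hF : ¬ Fld S)
    (h1 : ¬ E1S (S : Subgroup G)) :
    ∃ (I : Type u) (_ : Fintype I) (_ : DecidableEq I) (N E : I → Subgroup G) (R₀ : Subgroup G) (Om : I → Type u)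
      (_ : ∀ i, Fintype (Om i)) (_ : ∀ i, DecidableEq (Om i)) (phi : ∀ i, Finset (Om i) → G),
      Bks S N E R₀ Om phi ∧ R1 (S : Subgroup G) ≤ R₀ ∧
        ∃ e ∈ TwoC.DecE.PP N R₀ (TvTr.Orb phi), FrE S (R1 (S : Subgroup G)) (⨆ i, N i) e := by
  have hL := Merge.isLoc_MZ h.ctx h.full h.data.noff
  have ht : TvS (S : Subgroup G) := (tv_or h.ctx.char2 hL (FourTree.gen_MZ S) hoff).resolve_right hF
  obtain ⟨I, i1, i2, N, E, R₀, Om, i3, i4, phi, F⟩ := exists_bks_tvS h ht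
  have hR := R1_le_R₀ h F
  obtain ⟨t, htS, c, hc, -, htv, hne⟩ := ht
  refine ⟨I, i1, i2, N, E, R₀, Om, i3, i4, phi, F, hR, frE_bks h F h1 fun A hA hbA => ?_⟩
  exact (TvExa.best_le_cent h.ctx.char2 hL (FourTree.gen_MZ S) hF F.toFull (no_of_tvS h htS hc htv hne) hA hbA).trans
    (centralizer_le hR)

end main

end Cfsg.Agent.Omega.NOThreeL.RZ.TwoE.Tv
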