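import Cfsg.Agent.Mrg.Omega.NOThreeL.RRed.Blk.AsmMv
import Cfsg.Agent.Mrg.Omega.NOThreeL.RRed.Blk.AsmInact
import Cfsg.Agent.Mrg.Omega.NOThreeL.RRed.Blk.AsmEsB
import Cfsg.Agent.Mrg.Omega.NOThreeL.RRed.Blk.DecDef


/-!
# [R-z], [Nat] : every minimal exact offender of `S` on `V*` is the root group of a natural block

`U = Wd S = V*`, `H = MZ S = Y`, `EE` = the images of the minimal exact offenders `A ≤ S`, `RR` contains the images of
those which move some `V_P`, `FFs EE RR` their conjugates under the stabiliser of `EE`.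

* `K_cent` : `K` centralises every root group in `FFs EE RR` which is not in `EP`;
* **`all_of`** : `FFs EE RR = EE`.
-/

set_option autoImplicit false
set_option linter.unusedSectionVars false

namespace Cfsg.Agent.Omega.NOThreeL.RZ.TwoE.NatAll

open Subgroup Cfsg Cfsg.Agent.ZN Cfsg.Agent.Omega.MinPar
open Cfsg.Agent.Omega.NOThreeL.RSplit (Nrm)
open Cfsg.Agent.Omega.NOThreeL.RRed
open Cfsg.Agent.Omega.NOThreeL.RRed.Blk
open Cfsg.Agent.Omega.NOThreeL.RRed.NS (fxd brk mem_fxd conj_eq_cj smul_eq_iff)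
open Cfsg.Agent.Omega.NOThreeL.RRed.WideTree (Act)
open Cfsg.Agent.Omega.NOThreeL.RTree (RB)
open Cfsg.Agent.Omega.NOThreeL.Merge (MZ isLoc_MZ)
open Cfsg.Agent.Omega.NOThreeL.RRed.Blk.TypesNat (XH ph ph_smul XH_faith ph_eq ph_surj no_XH two_of)
open Cfsg.Agent.Omega.NOThreeL.RRed.Blk.Types (sub_mem_brk)
open Cfsg.Agent.Omega.NOThreeL.RRed.Blk.Asm
open Cfsg.Agent.Omega.NOThreeL.RRed.Blk.AsmCore (EP KP im ph_mem_im)
open Cfsg.Agent.Omega.NOThreeL.RRed.Blk.TypesGam (NO)
open scoped Pointwise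

universe u v

section mod

variable {X : Type u} {V : Type v} [Group X] [AddCommGroup V] [DistribMulAction X V] [Finite X] [Finite V]

/-- `K` centralises the root groups which are not in `EP`. -/
theorem K_cent (h2 : ∀ v : V, v + v = 0) (hf : ∀ x : X, (∀ v : V, x • v = v) → x = 1) (hno : NO X V)
    {S : Subgroup X} {EE : Set (Subgroup X)} (E : Es S EE V) {P K : Subgroup X} {EP : Set (Subgroup X)}
    (hAc : Ac S EE P K EP V) {D : Subgroup X} (hDE : D ∈ EE) (hD : D ∉ EP) {N C : AddSubgroup V} (hG : GB EE D N C)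
    (h4 : 4 ≤ Nat.card D) {k : X} (hk : k ∈ K) {a : X} (ha : a ∈ D) : k * a * k⁻¹ = a := by
  have h1 := Asm.ind h2 hf hno hG.nb h4 (K := K) (B₀ := EP) (fun B hB => E.el B (hAc.EPE hB))
    (fun B hB => E.exact B (hAc.EPE hB)) (fun B hB => E.quad B (hAc.EPE hB)) hAc.EPK
    (fun B hB => hG.oth B (hAc.EPE hB) fun e => hD (e ▸ hB))
    ((hAc.dich D hDE).resolve_left hD) hAc.spl hAc.genK
  obtain ⟨hN, hC⟩ := hG.nb.act ha
  have key : ∀ v : V, (k * a * k⁻¹) • v = a • v := by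
    intro v
    obtain ⟨n, hn, c, hc, rfl⟩ := hG.nb.dec v
    have h3 : k⁻¹ • c ∈ C := by
      have e1 : k⁻¹ • c = (k⁻¹ • c - c) + c := by abel
      rw [e1]
      exact add_mem (h1.2 (sub_mem_brk (inv_mem hk) c)) hc
    rw [mul_smul, mul_smul, smul_add, smul_add, smul_add, smul_add, h1.1 _ (inv_mem hk) n hn, h1.1 k hk _ (hN n hn),
      hC _ h3, smul_inv_smul, hC c hc]
  have h5 : a⁻¹ * (k * a * k⁻¹) = 1 := hf _ fun v => by rw [mul_smul, key, inv_smul_smul]
  exact (inv_mul_eq_one.1 h5).symm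

end mod

variable {G : Type u} [Group G] [Finite G] {S : Sylow 2 G}

/-- the image determines the action on `V_P` -/
theorem mem_EP_of_im {H U P A₁ A₂ : Subgroup G} (Q : Nrm H U) (hSH : (S : Subgroup G) ≤ H)
    (hVU : zl (S : Subgroup G) P ≤ U) (h1 : A₁ ∈ AsmCore.EE (S : Subgroup G) U) (h2 : A₂ ∈ EP (S : Subgroup G) P U)
    (e : im Q A₁ = im Q A₂) : A₁ ∈ EP (S : Subgroup G) P U := by
  refine ⟨h1, fun hc => h2.2 ?_⟩
  intro a ha
  have haH : a ∈ H := hSH (h2.1.1 ha)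
  have h3 : ph Q ⟨a, haH⟩ ∈ im Q A₁ := by
    rw [e]
    exact ph_mem_im Q ha
  obtain ⟨b, hb, hab⟩ := h3
  rw [mem_centralizer_iff]
  intro w hw
  have h4 := (ph_eq Q).1 hab (Q.of w (hVU hw))
  have h5 : b • Q.of w (hVU hw) = Q.of w (hVU hw) := by
    rw [smul_eq_iff]
    change (b : G) * w * (b : G)⁻¹ = w
    have h7 : w * (b : G) = b * w := mem_centralizer_iff.1 (hc hb) w hw
    rw [← h7, mul_inv_cancel_right]
  rw [h5] at h4
  have h6 := (smul_eq_iff Q ⟨a, haH⟩ (Q.of w (hVU hw))).1 h4.symm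
  change a * w * a⁻¹ = w at h6
  exact (mul_inv_eq_iff_eq_mul.1 h6).symm

/-- **Every minimal exact offender of `S` on `V*` is a root group.** -/
theorem all_of (B : RB S) (Q : Nrm (MZ (S : Subgroup G)) (Wd (S : Subgroup G)))
    (h2 : ∀ v : Q.Mod, v + v = 0) (hno : NO (XH Q) Q.Mod) {RR : Set (Subgroup (XH Q))}
    (E : Es (im Q (S : Subgroup G)) (im Q '' AsmCore.EE (S : Subgroup G) (Wd (S : Subgroup G))) Q.Mod)
    (hAc : ∀ P, Act (S : Subgroup G) P → Ac (im Q (S : Subgroup G))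
      (im Q '' AsmCore.EE (S : Subgroup G) (Wd (S : Subgroup G))) (im Q P)
      (im Q (KP (S : Subgroup G) P (Wd (S : Subgroup G)))) (im Q '' EP (S : Subgroup G) P (Wd (S : Subgroup G))) Q.Mod)
    (hRR : ∀ P, Act (S : Subgroup G) P → im Q '' EP (S : Subgroup G) P (Wd (S : Subgroup G)) ⊆ RR)
    (hRE : RR ⊆ im Q '' AsmCore.EE (S : Subgroup G) (Wd (S : Subgroup G)))
    (h4 : ∀ D ∈ FFs (im Q '' AsmCore.EE (S : Subgroup G) (Wd (S : Subgroup G))) RR, 4 ≤ Nat.card D)
    (hG : ∀ D ∈ FFs (im Q '' AsmCore.EE (S : Subgroup G) (Wd (S : Subgroup G))) RR, ∃ N C : AddSubgroup Q.Mod,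
      GB (im Q '' AsmCore.EE (S : Subgroup G) (Wd (S : Subgroup G))) D N C) :
    FFs (im Q '' AsmCore.EE (S : Subgroup G) (Wd (S : Subgroup G))) RR =
      im Q '' AsmCore.EE (S : Subgroup G) (Wd (S : Subgroup G)) := by
  have hc := B.ctx.char2
  have hL := isLoc_MZ B.ctx B.full B.data.noff
  have hSH : (S : Subgroup G) ≤ MZ (S : Subgroup G) := hL.le
  have hf : ∀ x : XH Q, (∀ v : Q.Mod, x • v = v) → x = 1 := fun x hx => XH_faith Q x hx
  set EE : Set (Subgroup (XH Q)) := im Q '' AsmCore.EE (S : Subgroup G) (Wd (S : Subgroup G)) with hEE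
  set FF : Set (Subgroup (XH Q)) := FFs EE RR with hFF
  have hSt : im Q (S : Subgroup G) ≤ St EE := le_St E.nS
  refine Set.Subset.antisymm (FFs_sub hRE) ?_
  rintro _ ⟨A, hA, rfl⟩
  by_contra hcon
  -- the property which is preserved
  let Pr : G → Prop := fun m => m ∈ MZ (S : Subgroup G) ∧ MulAut.conj m • A ≤ (S : Subgroup G) ∧
    im Q (MulAut.conj m • A) ∉ FF
  have key : ∀ P, IsParS (S : Subgroup G) P → ∀ p ∈ P, ∀ m, Pr m → Pr (p * m) := by
    rintro P hP p hp m ⟨hm, hmS, hmF⟩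
    have hPM : P ≤ MZ (S : Subgroup G) := Merge.le_MZ hP
    have hVU : zl (S : Subgroup G) P ≤ Wd (S : Subgroup G) := Star.zl_mono _ hPM
    have hA1 : MulAut.conj m • A ∈ AsmCore.EE (S : Subgroup G) (Wd (S : Subgroup G)) := by
      refine ⟨hmS, ?_⟩
      rw [conj_eq_cj]
      exact CI.mx_conj hA.2 (Q.nrm hm)
    set A₁ : Subgroup G := MulAut.conj m • A with hA₁
    have hn1 : A₁ ≤ centralizer (zl (S : Subgroup G) P : Set G) := by
      by_contra h
      have h1 : A₁ ∈ EP (S : Subgroup G) P (Wd (S : Subgroup G)) := ⟨hA1, h⟩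
      exact hmF (le_FFs (hRR P (AsmMv.act_of_EP B hP h1) ⟨A₁, h1, rfl⟩))
    have ho : A₁ ≤ o2 P := by
      rw [← hP.inf_centralizer S hc]
      exact le_inf hmS hn1
    have hcj : MulAut.conj (p * m) • A = MulAut.conj p • A₁ := by rw [hA₁, ← mul_smul, ← map_mul]
    have ho2 : MulAut.conj p • A₁ ≤ o2 P := by
      rintro _ ⟨a, ha, rfl⟩
      exact (mem_normalizer_iff.1 (le_normalizer_o2 P hp) a).1 (ho ha)
    have hpS : MulAut.conj p • A₁ ≤ (S : Subgroup G) := ho2.trans (hP.isLoc.o2_le S)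
    refine ⟨mul_mem (hPM hp) hm, by rw [hcj]; exact hpS, ?_⟩
    rw [hcj]
    intro hF2
    apply hmF
    -- back
    have e1 : im Q A₁ = MulAut.conj (ph Q ⟨p, hPM hp⟩)⁻¹ • im Q (MulAut.conj p • A₁) := by
      have e2 : im Q (MulAut.conj p • A₁) = MulAut.conj (ph Q ⟨p, hPM hp⟩) • im Q A₁ :=
        AsmCore.im_cj Q ⟨p, hPM hp⟩
      rw [e2, ← mul_smul, ← map_mul, inv_mul_cancel, map_one, one_smul]
    have hA2 : MulAut.conj p • A₁ ∈ AsmCore.EE (S : Subgroup G) (Wd (S : Subgroup G)) := by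
      refine ⟨hpS, ?_⟩
      rw [conj_eq_cj]
      exact CI.mx_conj hA1.2 (Q.nrm (hPM hp))
    have hpi : (ph Q ⟨p, hPM hp⟩)⁻¹ ∈ im Q P := inv_mem (ph_mem_im Q hp)
    rcases AsmInact.inact_or Q hP with a | hin
    · have hac := hAc P a
      -- not in `EP`
      have hnE : im Q (MulAut.conj p • A₁) ∉ im Q '' EP (S : Subgroup G) P (Wd (S : Subgroup G)) := by
        rintro ⟨A₃, h3, e3⟩
        have h5 := mem_EP_of_im Q hSH hVU hA2 h3 e3.symm
        refine h5.2 (ho2.trans ?_)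
        rw [← hP.inf_centralizer S hc]
        exact inf_le_right
      -- the stabiliser of `FF \ EP`
      have hst : im Q P ≤ St (FF \ (im Q '' EP (S : Subgroup G) P (Wd (S : Subgroup G)))) := by
        refine hac.gen.trans (sup_le (le_St fun k hk D hD => ?_) (le_St fun s hs D hD => ?_))
        · obtain ⟨N, C, hGB⟩ := hG D hD.1
          have e5 : MulAut.conj k • D = D := by
            have h6 : ∀ k ∈ im Q (KP (S : Subgroup G) P (Wd (S : Subgroup G))), MulAut.conj k • D ≤ D := by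
              rintro k hk _ ⟨a, ha, rfl⟩
              have h7 := K_cent h2 hf hno E hac (FFs_sub hRE hD.1) hD.2 hGB (h4 D hD.1) hk ha
              change k * a * k⁻¹ ∈ D
              rw [h7]; exact ha
            refine le_antisymm (h6 k hk) fun a ha => ?_
            rw [Types.mem_cj]
            exact h6 k⁻¹ (inv_mem hk) ⟨a, ha, by
              change k⁻¹ * a * k⁻¹⁻¹ = _
              rw [inv_inv]⟩
          rw [e5]; exact hD
        · refine ⟨conj_FFs (hSt hs) hD.1, fun hE2 => hD.2 ?_⟩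
          obtain ⟨t, ht, rfl⟩ := hs
          have htS : (t : G) ∈ (S : Subgroup G) := ht
          obtain ⟨A₃, h3, e3⟩ := hE2
          refine ⟨MulAut.conj (t : G)⁻¹ • A₃, AsmCore.EP_cj hP.le (inv_mem htS) (Q.nrm (inv_mem t.2)) h3, ?_⟩
          have e6 : im Q (MulAut.conj ((t⁻¹ : MZ (S : Subgroup G)) : G) • A₃) = MulAut.conj (ph Q t⁻¹) • im Q A₃ :=
            AsmCore.im_cj Q t⁻¹
          rw [InvMemClass.coe_inv] at e6
          rw [e6, e3, map_inv, ← mul_smul, ← map_mul, inv_mul_cancel, map_one, one_smul]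
      rw [e1]
      exact ((mem_St.1 (hst hpi) _).1 ⟨hF2, hnE⟩).1
    · rw [e1]
      exact conj_FFs (le_St hin hpi) hF2
  let T : Subgroup G :=
    { carrier := {g | ∀ m, Pr m ↔ Pr (g * m)}
      mul_mem' := by
        intro a b ha hb m
        have h1 := hb m
        have h3 := ha (b * m)
        rw [← mul_assoc] at h3
        exact h1.trans h3
      one_mem' := by intro m; rw [one_mul]
      inv_mem' := by
        intro a ha m
        have h1 := ha (a⁻¹ * m)
        have e : a * (a⁻¹ * m) = m := by group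
        rw [e] at h1
        exact h1.symm }
  have hT : MZ (S : Subgroup G) ≤ T := by
    refine sSup_le fun P hP p hp m => ⟨key P hP p hp m, fun h => ?_⟩
    have h3 := key P hP p⁻¹ (inv_mem hp) (p * m) h
    have e : p⁻¹ * (p * m) = m := by group
    rwa [e] at h3
  have h1 : Pr 1 := by
    refine ⟨one_mem _, ?_, ?_⟩
    · rw [map_one, one_smul]; exact hA.1
    · rw [map_one, one_smul]; exact hcon
  have hall : ∀ m ∈ MZ (S : Subgroup G), ChoiceBase.cj m⁻¹ A ≤ (S : Subgroup G) := by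
    intro m hm
    have h3 := ((hT (inv_mem hm) : _ ∈ T) 1).1 h1
    rw [mul_one] at h3
    rw [← conj_eq_cj]
    exact h3.2.1
  have h3 := VF.le_o2_of_cj S hSH hall
  apply hA.2.ne
  have h5 := hL.zl_le S hc
  intro a ha
  rw [mem_centralizer_iff]
  intro v hv
  exact ((Cfsg.Agent.MinSimple.VModule.mem_zc.1 (h5 hv)).2.1 a (h3 ha)).symm

end Cfsg.Agent.Omega.NOThreeL.RZ.TwoE.NatAll
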