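import Cfsg.Agent.Mrg.Omega.NOThreeL.RZ.TwoE.NatAll
import Cfsg.Agent.Mrg.Omega.NOThreeL.RRed.Blk.AsmInp
import Cfsg.Agent.Mrg.Omega.NOThreeL.RRed.Blk.SrcBox
import Cfsg.Agent.Mrg.Omega.NOThreeL.RRed.Blk.DecNat
import Cfsg.Agent.Mrg.Omega.NOThreeL.RTreeF


/-!
# [R-z], [Nat] : the family of all natural blocks in `V*`

`S` in box R with `V*` FF, no transvection in `S`, all natural blocks of the active `P ∈ P*(S)` split (`Spl S (MZ S)`).

* `NatF S Q N C` : every minimal exact offender of `S` is the root group of a natural block; the blocks and complements are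
  permuted by `Y`;
* `natF_of`, **`exists_natF`** : there is such a family;
* `NatF.dec` : `Blk.Dec`.
-/

set_option autoImplicit false
set_option linter.unusedSectionVars false

namespace Cfsg.Agent.Omega.NOThreeL.RZ.TwoE.NatFam

open Subgroup Cfsg Cfsg.Agent.ZN Cfsg.Agent.Omega.MinPar
open Cfsg.Agent.Omega.NOThreeL.RSplit (Nrm)
open Cfsg.Agent.Omega.NOThreeL.RRed
open Cfsg.Agent.Omega.NOThreeL.RRed.Blk
open Cfsg.Agent.Omega.NOThreeL.RRed.NS (fxd brk mem_fxd conj_eq_cj smul_eq_iff)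
open Cfsg.Agent.Omega.NOThreeL.RRed.WideTree (Act)
open Cfsg.Agent.Omega.NOThreeL.RRed.FourTree (TvS gen_MZ)
open Cfsg.Agent.Omega.NOThreeL.RTree (RB)
open Cfsg.Agent.Omega.NOThreeL.RTreeF (RBF)
open Cfsg.Agent.Omega.NOThreeL.Merge (MZ isLoc_MZ)
open Cfsg.Agent.Omega.NOThreeL.RRed.Blk.TypesNat (XH ph ph_smul XH_faith ph_eq ph_surj no_XH two_of)
open Cfsg.Agent.Omega.NOThreeL.RRed.Blk.Asm
open Cfsg.Agent.Omega.NOThreeL.RRed.Blk.AsmG (Inp RRs Ps sSup_Ps inact)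
open Cfsg.Agent.Omega.NOThreeL.RRed.Blk.AsmCore (EP KP im ph_mem_im)
open Cfsg.Agent.Omega.NOThreeL.RRed.Blk.AsmInp (Spl type_of inp_of act_iff nrm_box)
open Cfsg.Agent.Omega.NOThreeL.RRed.Blk.SrcBox (main_box four_le)
open scoped Pointwise

universe u

variable {G : Type u} [Group G] [Finite G] {S : Sylow 2 G}

/-- the images of the minimal exact offenders of `S` on `V*` -/
abbrev EB (S : Sylow 2 G) (Q : Nrm (MZ (S : Subgroup G)) (zl (S : Subgroup G) (MZ (S : Subgroup G)))) : Set (Subgroup (XH Q)) :=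
  im Q '' AsmCore.EE (S : Subgroup G) (zl (S : Subgroup G) (MZ (S : Subgroup G)))

/-- **Every minimal exact offender of `S` is the root group of a natural block.** -/
structure NatF (S : Sylow 2 G) (Q : Nrm (MZ (S : Subgroup G)) (zl (S : Subgroup G) (MZ (S : Subgroup G))))
    (N C : Subgroup (XH Q) → AddSubgroup Q.Mod) : Prop where
  inp : Inp S (MZ (S : Subgroup G)) Q
  four : ∀ D ∈ EB S Q, 4 ≤ Nat.card D
  gb : ∀ D ∈ EB S Q, GB (EB S Q) D (N D) (C D)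
  fam : Fam (im Q (S : Subgroup G)) (EB S Q) N C
  perm : ∀ g : XH Q, ∀ D ∈ EB S Q, ∃ D' ∈ EB S Q, Nat.card D' = Nat.card D ∧ ∀ m, m ∈ C D ↔ g • m ∈ C D'

/-- **The family.** -/
theorem natF_of (B : RB S) (ht : ¬ TvS (S : Subgroup G)) (hs : Spl S (MZ (S : Subgroup G)))
    {Q : Nrm (MZ (S : Subgroup G)) (zl (S : Subgroup G) (MZ (S : Subgroup G)))} (I : Inp S (MZ (S : Subgroup G)) Q) :
    NatF S Q (NN (EB S Q) Q.Mod) (CC (EB S Q) Q.Mod) := by
  have hc := B.ctx.char2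
  have hL := isLoc_MZ B.ctx B.full B.data.noff
  have hSH : (S : Subgroup G) ≤ MZ (S : Subgroup G) := hL.le
  have no := I.no
  have h2 := I.two
  obtain ⟨h1, h4, hGB, hF⟩ := I.main (RR := RRs S (MZ (S : Subgroup G)) Q) le_rfl
  have hRE : RRs S (MZ (S : Subgroup G)) Q ⊆ EB S Q := by
    rintro _ ⟨-, P, -, -, A, hA, rfl⟩
    exact ⟨A, hA.1, rfl⟩
  have hall : FFs (EB S Q) (RRs S (MZ (S : Subgroup G)) Q) = EB S Q := NatAll.all_of B Q h2 I.hno (RR := RRs S (MZ (S : Subgroup G)) Q) I.es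
    (fun P a => I.ac P a.1 (Merge.le_MZ a.1) ((act_iff hc a.1).1 a)) (by
      rintro P a _ ⟨A, hA, rfl⟩
      exact ⟨four_le Q hSH I ht ⟨A, hA.1, rfl⟩, P, a.1, Merge.le_MZ a.1, A, hA, rfl⟩) hRE h4
    fun D hD => ⟨_, _, hGB D hD⟩
  have hPC := Asm.permC h2 I.hf I.hno (EE := EB S Q) I.es (Ps := Ps (S : Subgroup G) (MZ (S : Subgroup G)) Q) (by
    rintro _ ⟨P, hP, hPL, rfl⟩
    by_cases ne : (EP (S : Subgroup G) P (zl (S : Subgroup G) (MZ (S : Subgroup G)))).Nonempty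
    · refine Or.inr ⟨_, _, I.ac P hP hPL ne, ?_⟩
      rintro _ ⟨A, hA, rfl⟩ hA4 N C hNC
      rcases type_of hc hL no hP hPL ne with h3 | ⟨F, i1, i2, i3, k, hF4, hk, ⟨M⟩⟩
      · have h5 := AsmSmall.card_small hc hL hP hPL no h3 Q hA
        exfalso
        change 4 ≤ Nat.card (im Q A) at hA4
        have h6 : Nat.card (im Q A) ≤ 2 := h5
        omega
      · obtain ⟨-, N', C', hNB, -, -, -, hC, -⟩ := AsmAct.typC_nat hc hL hP hPL no M (hs P hP hPL ne F k M hF4) Q hF4 _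
          ⟨A, hA, rfl⟩
        have h6 := hNB.uniq h2 I.hf I.hno hNC hA4
        rw [← h6.2]
        exact hC
    · exact Or.inl (inact hc Q hP ne)) (sSup_Ps Q I.gen) hRE (fun A hA => hA.1) (by
    intro D hD
    exact ⟨_, _, hGB D (le_FFs hD)⟩)
  rw [hall] at h1 h4 hGB hF hPC
  exact { inp := I, four := h4, gb := hGB, fam := hF, perm := hPC }

/-- **There is such a family.** -/
theorem exists_natF (h : RBF S) (ht : ¬ TvS (S : Subgroup G)) (hs : Spl S (MZ (S : Subgroup G))) :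
    ∃ (Q : Nrm (MZ (S : Subgroup G)) (zl (S : Subgroup G) (MZ (S : Subgroup G)))) (N C : Subgroup (XH Q) → AddSubgroup Q.Mod),
      NatF S Q N C ∧ (EB S Q).Nonempty := by
  have B : RB S := h.toRB
  have hc := B.ctx.char2
  have hL := isLoc_MZ B.ctx B.full B.data.noff
  obtain ⟨A₀, hA₀, hoff⟩ := h.ff
  obtain ⟨P₀, A₁, g₁⟩ := exists_gOne hc hL (gen_MZ S) ⟨A₀, hA₀.trans hL.le, hoff⟩
  obtain ⟨A₂, hA₂, -, hmx, g₂⟩ := g₁.exists_mx hc
  have I := inp_of hc hL g₁.no (gen_MZ S) hs (nrm_box B)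
  exact ⟨nrm_box B, _, _, natF_of B ht hs I, ⟨_, A₂, ⟨hA₂.trans g₁.AS, hmx⟩, rfl⟩⟩

namespace NatF

variable {Q : Nrm (MZ (S : Subgroup G)) (zl (S : Subgroup G) (MZ (S : Subgroup G)))} {N C : Subgroup (XH Q) → AddSubgroup Q.Mod}
  (F : NatF S Q N C)
include F

/-- the intersection of the complements is invariant -/
theorem rs (g : XH Q) {m : Q.Mod} (hm : m ∈ Rs (EB S Q) C) : g • m ∈ Rs (EB S Q) C := by
  rw [mem_Rs] at hm ⊢
  intro D hD
  obtain ⟨D', hD', -, h⟩ := F.perm g⁻¹ D hD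
  rw [h, inv_smul_smul]
  exact hm D' hD'

/-- **`Blk.Dec`** -/
theorem dec (hSL : (S : Subgroup G) ≤ MZ (S : Subgroup G)) : Dec (S : Subgroup G) (MZ (S : Subgroup G)) (zl (S : Subgroup G) (MZ (S : Subgroup G))) (fun b : EB S Q => su Q (N b))
    (fun b : EB S Q => pre Q (Eg (EB S Q) N b)) (su Q (Rs (EB S Q) C)) :=
  dec_of_fam hSL F.fam fun g _ hm => F.rs g hm

end NatF

end Cfsg.Agent.Omega.NOThreeL.RZ.TwoE.NatFam
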