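import Cfsg.Agent.Mrg.Omega.NOThreeL.RZ.TwoC.NonS
import Cfsg.Agent.Mrg.Omega.NOThreeL.RZ.TwoC.FrPOf
import Cfsg.Agent.Mrg.Omega.NOThreeL.RRed.Blk.AsmInp
import Cfsg.Agent.Mrg.Omega.NOThreeL.RRed.Blk.FXDef


/-!
# [R-z], the nonsplit case: the frame `FrN` from the blocks (helper842 #27284, helper892 #27278, helper162)

`V* = ⟨Z^Y⟩`, `Y = YS S`, `H = N_G(Y)`, `Q : Nrm H V*`, `X = XH Q` the group induced by `H` on `V*`, `T` the image of `S`.

* `FXM T EO FF NN LL ZZ v` (FXDef) : the module facts: `EO` is the normal closure of the root groups `D ∈ FF` of the nonsplit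
  blocks, `NN`, `LL`, `ZZ` are the sums of the blocks, lines, radicals, `v ∈ LL` is a `T`-fixed vector of full support;
* `Dg Q EO = {y ∈ Y | ph y ∈ EO}`, `Rg = ⟨(Z ∩ ZZ)^Y⟩`;
* `comm_eq` : `[V*, Dg] = NN`;
* **`frN_of`** : `FrN S Rg NN LL v`.
-/

set_option autoImplicit false
set_option linter.unusedSectionVars false

namespace Cfsg.Agent.Omega.NOThreeL.RZ.TwoE.NonSplit

open Subgroup Cfsg
open Cfsg.Agent.ZN (o2 zc zl jj)
open Cfsg.Agent.ZN.ChoiceBase hiding mem_zc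
open Cfsg.Agent.Omega.ML.GMod (hul hul_le hul_le_of le_hul cj_le_hul le_normalizer_hul nc)
open Cfsg.Agent.Omega.MinPar Cfsg.Agent.Omega.Frame Cfsg.Agent.Omega.FrameNOFF
open Cfsg.Agent.Omega.FFThm (ElemM OffM NoOverM)
open Cfsg.Agent.Omega.NO3b.Bang (le_normalizer_sup cent_symm)
open Cfsg.Agent.Omega.NOThreeL.Star (YS le_YS S_le_YS zl_mono)
open Cfsg.Agent.Omega.NO3S.EThree.ExactA (eab_iff eab_mono)
open Cfsg.Agent.MinSimple.VModule (zc_le_zl le_normalizer_zl zl_le zc_le zc_sq mem_zc le_centralizer_zc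
  le_normalizer_o2 o2_isPGroup o2_le le_o2 normalizer_le_normalizer_zc)
open Cfsg.Agent.Omega.NOThreeL.RTree (RB)
open Cfsg.Agent.Omega.NOThreeL.RZ (norm_cent norm_V_of norm_commutator_of V_le_of le_norm_V V_mono)
open Cfsg.Agent.Omega.NOThreeL.RZ.TwoC
open Cfsg.Agent.Omega.NOThreeL.RRed (Exa)
open Cfsg.Agent.Omega.NOThreeL.RRed.EOne (Vstar_eqD VC Vsq S_YS VS comm_leD VcZ_cent VcZ_le norm_commD)
open Cfsg.Agent.Omega.NOThreeL.RSplit (Nrm)
open Cfsg.Agent.Omega.NOThreeL.RRed.NS (fxd brk mem_fxd un val_mem_un smul_eq_iff)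
open Cfsg.Agent.Omega.NOThreeL.RRed.Blk.TypesNat (XH ph ph_smul ph_surj ph_eq XH_faith)
open Cfsg.Agent.Omega.NOThreeL.RRed.Blk.AsmCore (im ph_mem_im im_mono im_cj im_le_of)
open Cfsg.Agent.Omega.NOThreeL.RRed.Blk.AsmUn (un_le un_le_sub un_mono un_eq_bot inv_iff brk_le_iff mem_brk)
open Cfsg.Agent.Omega.NOThreeL.RRed.Blk.FXDef (FXM)
open scoped Pointwise commutatorElement

universe u v

variable {G : Type u} [Group G] [Finite G] {S : Sylow 2 G}

/-- `{y ∈ Y | ph y ∈ EO}` -/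
def Dg {H U : Subgroup G} (Y : Subgroup G) (Q : Nrm H U) (EO : Subgroup (XH Q)) : Subgroup G :=
  Y ⊓ (EO.comap (ph Q)).map H.subtype

/-- `⟨(Z ∩ ZZ)^Y⟩` -/
def Rg {H U : Subgroup G} (S : Subgroup G) (Q : Nrm H U) (ZZ : AddSubgroup Q.Mod) : Subgroup G :=
  NoFF.Basic.V (zc S ⊓ un Q ZZ) (YS S)

section basic

variable {H U Y : Subgroup G} {Q : Nrm H U} {EO : Subgroup (XH Q)}

theorem mem_Dg {g : G} : g ∈ Dg Y Q EO ↔ g ∈ Y ∧ ∃ h : g ∈ H, ph Q ⟨g, h⟩ ∈ EO := by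
  constructor
  · rintro ⟨h1, ⟨y, hy, rfl⟩⟩
    exact ⟨h1, y.2, hy⟩
  · rintro ⟨h1, h2, h3⟩
    exact ⟨h1, ⟨⟨g, h2⟩, h3, rfl⟩⟩

theorem Dg_le : Dg Y Q EO ≤ Y := inf_le_left

/-- membership in the normalizer of `un Q B` -/
theorem mem_norm_un {B : AddSubgroup Q.Mod} {g : G} (hg : g ∈ H) (h : ∀ m ∈ B, ph Q ⟨g, hg⟩ • m ∈ B) :
    g ∈ normalizer (un Q B : Set G) := by
  refine mem_normalizer_of_cj_le ?_
  rintro _ ⟨_, ⟨m, hm, rfl⟩, rfl⟩
  have h1 := h m hm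
  rw [ph_smul] at h1
  exact ⟨_, h1, rfl⟩

theorem norm_Dg (hY : H ≤ normalizer (Y : Set G)) (hn : ∀ x, ∀ g ∈ EO, x * g * x⁻¹ ∈ EO) :
    H ≤ normalizer (Dg Y Q EO : Set G) := by
  have key : ∀ x ∈ H, ∀ g ∈ Dg Y Q EO, x * g * x⁻¹ ∈ Dg Y Q EO := by
    intro x hx g hg
    obtain ⟨h1, h2, h3⟩ := mem_Dg.1 hg
    refine mem_Dg.2 ⟨(mem_normalizer_iff.1 (hY hx) g).1 h1, mul_mem (mul_mem hx h2) (inv_mem hx), ?_⟩
    have h4 := hn (ph Q ⟨x, hx⟩) _ h3
    rw [← map_mul, ← map_inv, ← map_mul] at h4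
    exact h4
  intro x hx
  rw [mem_normalizer_iff]
  refine fun g => ⟨key x hx g, fun hg => ?_⟩
  have h1 := key x⁻¹ (inv_mem hx) _ hg
  have e : x⁻¹ * (x * g * x⁻¹) * x⁻¹⁻¹ = g := by group
  rwa [e] at h1

/-- elements of `EO` come from `Dg` -/
theorem exists_Dg (hE : EO ≤ im Q Y) {x : XH Q} (hx : x ∈ EO) :
    ∃ g, ∃ hg : g ∈ H, g ∈ Dg Y Q EO ∧ ph Q ⟨g, hg⟩ = x := by
  obtain ⟨a, ha, rfl⟩ := hE hx
  exact ⟨a, a.2, mem_Dg.2 ⟨ha, a.2, hx⟩, rfl⟩

/-- **`[U, Dg] = NN`** -/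
theorem comm_eq (hE : EO ≤ im Q Y) : (⁅U, Dg Y Q EO⁆ : Subgroup G) = un Q (brk Q.Mod EO) := by
  apply le_antisymm
  · rw [commutator_le]
    intro v hv d hd
    obtain ⟨-, h2, h3⟩ := mem_Dg.1 hd
    have h4 := mem_brk (V := Q.Mod) h3 (Q.of v hv)
    rw [ph_smul] at h4
    have h5 := (val_mem_un Q).2 h4
    have h6 := inv_mem h5
    have e : ⁅v, d⁆ = (Q.val ((⟨d, h2⟩ : H) • Q.of v hv - Q.of v hv))⁻¹ := by
      rw [Nrm.val_sub, Nrm.val_smul, Nrm.val_of, commutatorElement_def]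
      group
    rw [e]
    exact h6
  · rw [un_le_sub, brk_le_iff]
    intro x hx m
    obtain ⟨g, hg, hgD, rfl⟩ := exists_Dg hE hx
    change Q.val _ ∈ (⁅U, Dg Y Q EO⁆ : Subgroup G)
    rw [ph_smul, Nrm.val_sub, Nrm.val_smul, commutator_comm]
    have e : ((⟨g, hg⟩ : H) : G) * Q.val m * ((⟨g, hg⟩ : H) : G)⁻¹ * (Q.val m)⁻¹ = ⁅g, Q.val m⁆ := by
      rw [commutatorElement_def]
    rw [e]
    exact commutator_mem_commutator hgD (Q.val_mem m)

end basic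

section frame

variable {Q : Nrm (normalizer (YS (S : Subgroup G) : Set G)) (zl (S : Subgroup G) (YS S))}
  {EO : Subgroup (XH Q)} {FF : Set (Subgroup (XH Q))} {NN LL ZZ : AddSubgroup Q.Mod} {v : Q.Mod}

theorem Y_le_H : YS (S : Subgroup G) ≤ normalizer (YS (S : Subgroup G) : Set G) := le_normalizer

theorem nS_le_H : normalizer ((S : Subgroup G) : Set G) ≤ normalizer (YS (S : Subgroup G) : Set G) := nS_ys

variable (h : RB S) (F : FXM (im Q (S : Subgroup G)) EO FF NN LL ZZ v)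
include h F

theorem EO_le : EO ≤ im Q (YS (S : Subgroup G)) := by
  refine F.EOgen _ ?_ (im_mono Q (S_YS h))
  rintro x _ ⟨a, ha, rfl⟩
  obtain ⟨y, rfl⟩ := ph_surj Q x
  refine ⟨y * a * y⁻¹, ?_, by rw [map_mul, map_mul, map_inv]⟩
  exact (mem_normalizer_iff.1 y.2 _).1 ha

theorem comm_NN : (⁅zl (S : Subgroup G) (YS S), Dg (YS (S : Subgroup G)) Q EO⁆ : Subgroup G) = un Q NN := by
  rw [comm_eq (EO_le h F), F.brk]

omit h in
theorem norm_ZZ : normalizer (YS (S : Subgroup G) : Set G) ≤ normalizer (un Q ZZ : Set G) :=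
  (inv_iff Q ZZ).1 F.Zinv

omit h in
theorem ZZ_cent : un Q ZZ ≤ centralizer (Dg (YS (S : Subgroup G)) Q EO : Set G) := by
  rintro _ ⟨m, hm, rfl⟩
  rw [mem_centralizer_iff]
  intro g hg
  obtain ⟨-, h2, h3⟩ := mem_Dg.1 hg
  have h4 := F.fix _ h3 m hm
  rw [ph_smul, smul_eq_iff, mul_inv_eq_iff_eq_mul] at h4
  exact h4

omit h in
theorem Rg_le : Rg (S : Subgroup G) Q ZZ ≤ un Q ZZ :=
  V_le_of inf_le_right (Y_le_H.trans (norm_ZZ F))

omit h in
theorem nS_Rg : normalizer ((S : Subgroup G) : Set G) ≤ normalizer (Rg (S : Subgroup G) Q ZZ : Set G) := by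
  refine norm_V_of ?_ nS_ys
  intro n hn
  rw [mem_normalizer_iff_cj, cj_inf, cj_eq_of_mem_normalizer (normalizer_le_normalizer_zc _ hn),
    cj_eq_of_mem_normalizer (norm_ZZ F (nS_le_H hn))]

theorem zc_ZZ_ne (Zne : ZZ ≠ ⊥) : zc (S : Subgroup G) ⊓ un Q ZZ ≠ ⊥ := by
  have hne : un Q ZZ ≠ ⊥ := fun h0 => Zne ((un_eq_bot Q).1 h0)
  have hS : (S : Subgroup G) ≤ normalizer (un Q ZZ : Set G) := (S_YS h).trans (Y_le_H.trans (norm_ZZ F))
  obtain ⟨z, hz, hz1, hzT⟩ := NOThreeL.AdjTransv.exists_fixed S.isPGroup' hne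
    (fun n hn => by rw [← pow_two]; exact Vsq h n (un_le Q _ hn)) fun s hs n hn' =>
      (mem_normalizer_iff.1 (hS hs) n).1 hn'
  intro h0
  have hzV := un_le Q _ hz
  have h2 : z ∈ zc (S : Subgroup G) := mem_zc.2 ⟨VS h hzV, fun s hs => mul_inv_eq_iff_eq_mul.1 (hzT s hs), Vsq h z hzV⟩
  have h3 : z ∈ zc (S : Subgroup G) ⊓ un Q ZZ := ⟨h2, hz⟩
  rw [h0, mem_bot] at h3
  exact hz1 h3

omit h in
theorem Rg_ge : zc (S : Subgroup G) ⊓ un Q ZZ ≤ Rg (S : Subgroup G) Q ZZ ⊓ zc (S : Subgroup G) :=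
  le_inf (RZ.Z_le _ _) inf_le_left

omit h in
/-- an element which conjugates the root groups into `S` normalises `LL` -/
theorem norm_LL {g : G} (hg : g ∈ normalizer (YS (S : Subgroup G) : Set G))
    (hD : ∀ D ∈ FF, MulAut.conj (ph Q ⟨g, hg⟩) • D ≤ im Q (S : Subgroup G)) : g ∈ normalizer (un Q LL : Set G) :=
  mem_norm_un hg (F.Linv _ hD)

omit h in
theorem nS_LL : normalizer ((S : Subgroup G) : Set G) ≤ normalizer (un Q LL : Set G) := by
  intro n hn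
  refine norm_LL F (nS_le_H hn) fun D hD => ?_
  have h1 : MulAut.conj (ph Q ⟨n, nS_le_H hn⟩) • D ≤ MulAut.conj (ph Q ⟨n, nS_le_H hn⟩) • im Q (S : Subgroup G) :=
    Subgroup.pointwise_smul_le_pointwise_smul_iff.2 (F.FT D hD)
  refine h1.trans ?_
  rw [← im_cj]
  refine im_mono Q ?_
  change MulAut.conj n • (S : Subgroup G) ≤ _
  exact (mem_normalizer_iff_cj.1 hn).le

theorem eZ : Q.val v ∈ zc (S : Subgroup G) := by
  have hV := Q.val_mem v
  refine mem_zc.2 ⟨VS h hV, fun s hs => ?_, Vsq h _ hV⟩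
  have h1 := F.vT _ (ph_mem_im Q (a := ⟨s, Y_le_H (S_YS h hs)⟩) hs)
  rw [ph_smul, smul_eq_iff, mul_inv_eq_iff_eq_mul] at h1
  exact h1

/-- **The frame `FrN`.** -/
theorem frN_of (Zne : ZZ ≠ ⊥) (no : NoOverM (zl (S : Subgroup G) (YS S)) (YS (S : Subgroup G)))
    (hex : ∀ A ≤ (S : Subgroup G), ElemM (zl (S : Subgroup G) (YS S)) A → Exa (zl (S : Subgroup G) (YS S)) A →
      A ≤ centralizer (un Q ZZ : Set G)) :
    FrN S (Rg (S : Subgroup G) Q ZZ) (un Q NN) (un Q LL) (Q.val v) := by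
  have hDn : normalizer (YS (S : Subgroup G) : Set G) ≤ normalizer (Dg (YS (S : Subgroup G)) Q EO : Set G) :=
    norm_Dg le_rfl F.EOn
  have hR := Rg_le F
  have hRV : Rg (S : Subgroup G) Q ZZ ≤ zl (S : Subgroup G) (YS S) := hR.trans (un_le Q _)
  have hRD : Rg (S : Subgroup G) Q ZZ ≤ centralizer (Dg (YS (S : Subgroup G)) Q EO : Set G) := hR.trans (ZZ_cent F)
  have hne : Rg (S : Subgroup G) Q ZZ ⊓ zc (S : Subgroup G) ≠ ⊥ := fun h0 =>
    zc_ZZ_ne h F Zne (le_bot_iff.1 ((Rg_ge F).trans h0.le))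
  have e1 : Q.val v ≠ 1 := fun h0 => F.v0 (Nrm.eq_zero_iff.2 h0)
  have heZ := eZ h F
  have hP : FrP S (Rg (S : Subgroup G) Q ZZ) (⁅zl (S : Subgroup G) (YS S), Dg (YS (S : Subgroup G)) Q EO⁆ : Subgroup G)
      (Q.val v) := by
    refine FrPOf.frP_of h (Y_le_H.trans hDn) Dg_le (nS_le_H.trans hDn) ?_ heZ ?_ e1 ?_ ?_ no hRV (le_norm_V _ _)
      (nS_Rg F) hRD hne fun A hA h1 h2 => (hex A hA h1 h2).trans (centralizer_le hR)
    · intro h0
      refine hne (le_bot_iff.1 (h0 ▸ ?_))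
      exact le_inf inf_le_right (inf_le_left.trans hRD)
    · rw [comm_NN h F]
      exact (val_mem_un Q).2 (F.LN F.vL)
    · intro y hy
      obtain ⟨z, hz, e⟩ := F.tr (ph Q ⟨y, Y_le_H hy⟩)
      obtain ⟨d, hd, hdD, rfl⟩ := exists_Dg (EO_le h F) hz
      have h3 : d⁻¹ * y ∈ YS (S : Subgroup G) ⊓ centralizer ({Q.val v} : Set G) := by
        refine ⟨(YS (S : Subgroup G)).mul_mem ((YS (S : Subgroup G)).inv_mem (Dg_le hdD)) hy, mem_centralizer_iff.2 ?_⟩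
        intro w hw
        rw [Set.mem_singleton_iff.1 hw]
        rw [ph_smul, ph_smul, Nrm.ext_iff, Nrm.val_smul, Nrm.val_smul] at e
        have e' : d * Q.val v * d⁻¹ = y * Q.val v * y⁻¹ := e
        calc Q.val v * (d⁻¹ * y) = d⁻¹ * (d * Q.val v * d⁻¹) * y := by group
          _ = d⁻¹ * (y * Q.val v * y⁻¹) * y := by rw [e']
          _ = d⁻¹ * y * Q.val v := by group
      have e3 : y = d * (d⁻¹ * y) := by group
      rw [e3]
      exact mul_mem (mem_sup_left hdD) (mem_sup_right h3)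
    · rw [comm_NN h F, un_le_sub]
      refine F.gen.trans ((AddSubgroup.closure_le _).2 ?_)
      rintro _ ⟨x, hx, rfl⟩
      obtain ⟨d, hd, hdD, rfl⟩ := exists_Dg (EO_le h F) hx
      change Q.val _ ∈ hul (zc (S : Subgroup G)) (Dg (YS (S : Subgroup G)) Q EO)
      rw [ph_smul, Nrm.val_sub, Nrm.val_smul]
      exact (hul (zc (S : Subgroup G)) (Dg (YS (S : Subgroup G)) Q EO)).mul_mem (cj_le_hul hdD ⟨Q.val v, heZ, rfl⟩)
        (Subgroup.inv_mem _ (le_hul _ _ heZ))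
  rw [comm_NN h F] at hP
  have hnL := nS_LL F
  exact
    { toFrP := hP
      XB := un_mono F.LN
      RB := hR.trans (un_mono F.ZN)
      eX := (val_mem_un Q).2 F.vL
      sX := (le_normalizer).trans hnL
      sXE := inf_le_right.trans hnL
      sXZ := inf_le_right.trans hnL
      alt := by
        rintro s ⟨hs, hsX⟩
        refine centralizer_le hR ?_
        rw [mem_centralizer_iff]
        rintro _ ⟨m, hm, rfl⟩
        have hsH : s ∈ normalizer (YS (S : Subgroup G) : Set G) := Y_le_H (S_YS h hs)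
        have h1 := F.alt _ (ph_mem_im Q (a := ⟨s, hsH⟩) hs) (fun l hl => by
          rw [ph_smul, smul_eq_iff, mul_inv_eq_iff_eq_mul]
          exact (mem_centralizer_iff.1 hsX _ ((val_mem_un Q).2 hl)).symm) m hm
        rw [ph_smul, smul_eq_iff, mul_inv_eq_iff_eq_mul] at h1
        exact h1.symm
      pX := by
        intro P hP hSR _ g hg
        have hPY := le_YS hP
        have hgH : g ∈ normalizer (YS (S : Subgroup G) : Set G) := Y_le_H (hPY hg)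
        refine norm_LL F hgH fun D hD => ?_
        rintro _ ⟨x, hx, rfl⟩
        obtain ⟨a, ha, rfl⟩ := F.FT D hD hx
        have haS : (a : G) ∈ (S : Subgroup G) := ha
        have haR : (a : G) ∈ centralizer (Rg (S : Subgroup G) Q ZZ : Set G) := by
          rw [mem_centralizer_iff]
          intro r hr
          obtain ⟨m, hm, rfl⟩ := hR hr
          have h4 := F.fix _ (F.FE D hD hx) m hm
          rw [ph_smul, smul_eq_iff, mul_inv_eq_iff_eq_mul] at h4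
          exact h4.symm
        have h5 : (a : G) ∈ o2 P := hSR ⟨haS, haR⟩
        have h6 : g * a * g⁻¹ ∈ o2 P := (mem_normalizer_iff.1 (le_normalizer_o2 P hg) _).1 h5
        have h7 : g * a * g⁻¹ ∈ (S : Subgroup G) := hP.isLoc.o2_le S h6
        have h8 := ph_mem_im Q (A := (S : Subgroup G)) (a := (⟨g, hgH⟩ : normalizer (YS (S : Subgroup G) : Set G)) * a *
          (⟨g, hgH⟩ : normalizer (YS (S : Subgroup G) : Set G))⁻¹) h7
        rw [map_mul, map_mul, map_inv] at h8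
        exact h8
      sepX := by
        intro x hx x' hx' y hy hr
        obtain ⟨m, hm, rfl⟩ := hx
        obtain ⟨m', hm', rfl⟩ := hx'
        have hyH : y ∈ normalizer (YS (S : Subgroup G) : Set G) := Y_le_H hy
        obtain ⟨z, hz, e⟩ := hR hr
        have h1 : ph Q ⟨y, hyH⟩ • m - m' = z := by
          rw [ph_smul]
          refine Nrm.ext ?_
          have e2 : (⟨y, hyH⟩ : normalizer (YS (S : Subgroup G) : Set G)) • m - m' = -m' +
            (⟨y, hyH⟩ : normalizer (YS (S : Subgroup G) : Set G)) • m := by abel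
          rw [e2, Nrm.val_add, Nrm.val_neg, Nrm.val_smul, e]
        have h2 := F.sep m hm m' hm' (ph Q ⟨y, hyH⟩) (h1 ▸ hz)
        rw [ph_smul] at h2
        have h3 := congrArg Q.val h2
        rw [Nrm.val_smul] at h3
        exact h3 }

end frame

end Cfsg.Agent.Omega.NOThreeL.RZ.TwoE.NonSplit
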