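import Cfsg.Agent.Mrg.Omega.NOThreeL.RZ.TwoE.NonSplit
import Cfsg.Agent.Mrg.Omega.NOThreeL.RRed.Blk.AsmInp
import Cfsg.Agent.Mrg.Omega.NOThreeL.RRed.Ex.Cent
import Cfsg.Agent.Mrg.Omega.NOThreeL.RZ.TwoC.BadN
import Cfsg.Agent.Mrg.Omega.NOThreeL.RRed.Blk.FxVec
import Cfsg.Agent.Mrg.Omega.NOThreeL.RRed.Blk.UniOf


/-!
# [R-z]: the socket `NsO` (a nonsplit natural block, `C_Z(E₁) ≠ 1`)

* `InB` : the two inputs `InN` of the family of the nonsplit blocks (active `P ∈ P*(S)`; other atoms centralise the block);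
* `Z_cent` : the exact groups of `S` centralise the sum of the radicals (THEOREM EX);
* `false_of` : no family of natural blocks with `ZZ ≠ 0`;
* **`nsO`** : `NsO`.
-/

set_option autoImplicit false
set_option linter.unusedSectionVars false

namespace Cfsg.Agent.Omega.NOThreeL.RZ.TwoE.NsEnd

open Subgroup Cfsg
open Cfsg.Agent.ZN (o2 zc zl jj)
open Cfsg.Agent.Omega.MinPar Cfsg.Agent.Omega.Frame
open Cfsg.Agent.Omega.FrameFF (cv)
open Cfsg.Agent.Omega.NO3S.ThmB Cfsg.Agent.Omega.NO3S.KeyRad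
open Cfsg.Agent.Omega.ML.Final (MLK)
open Cfsg.Agent.Omega.FFThm (ElemM OffM NoOverM)
open Cfsg.Agent.Omega.NOThreeL.Star (YS S_le_YS)
open Cfsg.Agent.Omega.NOThreeL.Merge (MZ le_MZ isLoc_MZ)
open Cfsg.Agent.Omega.NOThreeL.RTreeF (RBF)
open Cfsg.Agent.Omega.NOThreeL.RTree (RB)
open Cfsg.Agent.Omega.NOThreeL.RSplit (Nrm)
open Cfsg.Agent.Omega.NOThreeL.RZ.TwoC (FrN)
open Cfsg.Agent.Omega.NOThreeL.RRed (Mx Exa)
open Cfsg.Agent.Omega.NOThreeL.RRed.EOne (Vsq S_YS no_of_mx)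
open Cfsg.Agent.Omega.NOThreeL.RRed.NS (fxd brk mem_fxd un val_mem_un smul_eq_iff)
open Cfsg.Agent.Omega.NOThreeL.RRed.Blk.AsmInp (Spl)
open Cfsg.Agent.Omega.NOThreeL.RRed.Blk.TypesNat (XH ph ph_smul ph_surj XH_faith imS)
open Cfsg.Agent.Omega.NOThreeL.RRed.Blk.AsmCore (EE EP im ph_mem_im)
open Cfsg.Agent.Omega.NOThreeL.RRed.Blk.AsmUn (un_le)
open Cfsg.Agent.Omega.NOThreeL.RRed.Blk.AsmN (FamN)
open Cfsg.Agent.Omega.NOThreeL.RRed.Blk.AsmN.FamN (sN)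
open Cfsg.Agent.Omega.NOThreeL.RRed.Blk.Asm (FFs le_FFs)
open Cfsg.Agent.Omega.NOThreeL.RRed.Blk.FXDef (FXM)
open Cfsg.Agent.Omega.NOThreeL.RRed.Blk.FamOf (InN famN_of exists_RRN nrm_norm)
open Cfsg.Agent.Omega.NOThreeL.RRed.Ex.Cent (ExG)
open Cfsg.Agent.Omega.NOThreeL.RZ.TwoE.NonSplit
open Cfsg.Agent.Omega.NOThreeL.RZ.TwoE.NrTree (NonS NsO)
open scoped Pointwise

universe u

/-- **The inputs of the family of the nonsplit blocks.** -/
def InB : Prop :=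
  ∀ (G : Type u) [Group G] [Finite G] (S : Sylow 2 G), RB S →
    NoOverM (zl (S : Subgroup G) (MZ (S : Subgroup G))) (MZ (S : Subgroup G)) →
    ∀ Q : Nrm (normalizer (MZ (S : Subgroup G) : Set G)) (zl (S : Subgroup G) (MZ (S : Subgroup G))), InN S Q

section one

variable {G : Type u} [Group G] [Finite G] {S : Sylow 2 G}
  {Q : Nrm (normalizer (YS (S : Subgroup G) : Set G)) (zl (S : Subgroup G) (YS S))}
  {FF : Set (Subgroup (XH Q))} {N C L Z : Subgroup (XH Q) → AddSubgroup Q.Mod}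

theorem two (h : RB S) : ∀ v : Q.Mod, v + v = 0 := fun v => Nrm.ext (by
  rw [Nrm.val_add, Nrm.val_zero]
  have := Vsq h _ (Q.val_mem v)
  rwa [pow_two] at this)

/-- the atoms of `S` centralise the sum of the radicals -/
theorem atom_cent (h : RB S)
    (F : FamN (im Q (S : Subgroup G)) (im Q '' EE (S : Subgroup G) (zl (S : Subgroup G) (YS S))) FF N C L Z)
    {A : Subgroup G} (hA : A ∈ EE (S : Subgroup G) (zl (S : Subgroup G) (YS S))) :
    A ≤ centralizer (un Q (sN FF Z) : Set G) := by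
  intro a ha
  rw [mem_centralizer_iff]
  rintro _ ⟨m, hm, rfl⟩
  have haH : a ∈ normalizer (YS (S : Subgroup G) : Set G) := Y_le_H (S_YS h (hA.1 ha))
  have h1 := mem_fxd.1 (F.EE_Z (two h) (fun x hx => XH_faith Q x hx) ⟨A, hA, rfl⟩ hm) _
    (ph_mem_im Q (A := A) (a := ⟨a, haH⟩) ha)
  rw [ph_smul, smul_eq_iff, mul_inv_eq_iff_eq_mul] at h1
  exact h1.symm

theorem no_of (h : RB S)
    (F : FamN (im Q (S : Subgroup G)) (im Q '' EE (S : Subgroup G) (zl (S : Subgroup G) (YS S))) FF N C L Z)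
    (hF : FF.Nonempty) : NoOverM (zl (S : Subgroup G) (YS S)) (YS (S : Subgroup G)) := by
  obtain ⟨D, hD⟩ := hF
  obtain ⟨A, hA, -⟩ := F.sub hD
  exact no_of_mx h hA.1 hA.2

/-- the exact groups of `S` centralise the sum of the radicals -/
theorem Z_cent (h : RB S) (ex : ExG (S : Subgroup G) (YS S))
    (F : FamN (im Q (S : Subgroup G)) (im Q '' EE (S : Subgroup G) (zl (S : Subgroup G) (YS S))) FF N C L Z)
    {EO : Subgroup (XH Q)} {NN LL : AddSubgroup Q.Mod} {v : Q.Mod}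
    (f : FXM (im Q (S : Subgroup G)) EO FF NN LL (sN FF Z) v) :
    ∀ A ≤ (S : Subgroup G), ElemM (zl (S : Subgroup G) (YS S)) A → Exa (zl (S : Subgroup G) (YS S)) A →
      A ≤ centralizer (un Q (sN FF Z) : Set G) :=
  ex _ (un_le Q _) (Y_le_H.trans (norm_ZZ f)) fun _ hB hm => atom_cent h F ⟨hB, hm⟩

/-- **No nonsplit block.** -/
theorem false_of (hM : MLK.{u, u}) (hR : NO3b.EndX.RedP.{u, u}) (hE : ML.Ex.Two.Ext.{u, u}) (h : RB S)
    (F : FamN (im Q (S : Subgroup G)) (im Q '' EE (S : Subgroup G) (zl (S : Subgroup G) (YS S))) FF N C L Z)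
    {D : Subgroup (XH Q)} (hD : D ∈ FF) (hZ : Z D ≠ ⊥) : False := by
  have hSH : (S : Subgroup G) ≤ normalizer (YS (S : Subgroup G) : Set G) := (S_YS h).trans Y_le_H
  obtain ⟨v, f, hc⟩ := RRed.Blk.FxmOf.fxm_of (T := imS Q S hSH) F (RRed.Blk.AsmG.EEc Q hSH) (two h)
    (fun x hx => XH_faith Q x hx) ⟨D, hD⟩
  have no := no_of h F ⟨D, hD⟩
  have Zne : sN FF Z ≠ ⊥ := fun h0 => hZ (le_bot_iff.1 ((le_iSup₂ (f := fun D (_ : D ∈ FF) => Z D) D hD).trans h0.le))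
  have hf := frN_of h f Zne no (Z_cent h (RRed.Ex.Main.exB h no) F f)
  exact hf.false_of hM hR hE (TwoC.BadN.bad_un (S_YS h) Q (Vsq h) F
    (fun A hA => (atom_cent h F hA).trans (centralizer_le (Rg_le f))) hc)

end one

/-- **The socket `NsO`.** -/
theorem nsO (hM : MLK.{u, u}) (hR : NO3b.EndX.RedP.{u, u}) (hE : ML.Ex.Two.Ext.{u, u}) (inp : InB.{u}) :
    NsO.{u} := by
  intro G _ _ S hBF _ _ hn
  have h : RB S := hBF.toRB
  have hc := h.ctx.char2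
  by_contra
  apply hn
  intro P hP hPM ne F i1 i2 i3 k M hF
  by_contra hns
  obtain ⟨A, hA⟩ := ne
  have no : NoOverM (zl (S : Subgroup G) (MZ (S : Subgroup G))) (MZ (S : Subgroup G)) := no_of_mx h hA.1.1 hA.1.2
  have hne : (S : Subgroup G) ≠ ⊥ := by
    intro h0
    apply hA.1.2.ne
    have h1 : A = ⊥ := le_bot_iff.1 (h0 ▸ hA.1.1)
    rw [h1]
    exact bot_le
  have hSM : (S : Subgroup G) ≤ MZ (S : Subgroup G) := S_YS h
  have hL : IsLoc (S : Subgroup G) (MZ (S : Subgroup G)) := Star.isLoc hc h.data.noff hSM hne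
  have Q := nrm_norm hSM (FFThm.elem_zl hc S hL)
  have I := inp G S h no Q
  obtain ⟨D, hD⟩ := exists_RRN hc hL no Q I hP ⟨A, hA⟩ M hF hns
  obtain ⟨N, C, L, Z, Fm, -, hZ⟩ := famN_of hc hL no Q I
  exact false_of hM hR hE h Fm (le_FFs hD) (hZ D (le_FFs hD))

end Cfsg.Agent.Omega.NOThreeL.RZ.TwoE.NsEnd
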